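import Mathlib
import Cfsg.Prelude.Def_FischerSpaces
import Cfsg.Prelude.Def_Solvable
import Cfsg.Prelude.Def_Local
import Cfsg.Prelude.Def_CaseTheorems
import Cfsg.Agent.Lib.Helper17.ReflThree

/-!
# S5360 pieces RF60-NE, RF60-CUBE, RF60-CONJ (helper21): basic facts on reflections over `ZMod 3`
-/

set_option autoImplicit false

namespace Cfsg.Agent.Helper21.RF60
open Cfsg QuadraticMap Module
open Cfsg.Agent.Helper17.Spinor

variable {ι : Type} [Fintype ι] [DecidableEq ι] (Q : QuadraticForm (ZMod 3) (ι → ZMod 3))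

/-- RF60-NE -/
theorem tG_ne_of_orth {a b : ι → ZMod 3} (ha : Q a ≠ 0) (hb : Q b ≠ 0) (hp : polar Q a b = 0) :
    tG Q a ≠ tG Q b := by
  intro h
  have h1 : toEnd Q (tG Q a) a = toEnd Q (tG Q b) a := by rw [h]
  rw [toEnd_tG Q ha, toEnd_tG Q hb, refl_apply_of_polar_eq_zero Q b a (by rw [polar_comm]; exact hp),
    refl_apply, polar_self] at h1
  have h2 : (Q a)⁻¹ * (2 * Q a) = 2 := by
    rw [mul_comm 2 (Q a), ← mul_assoc, inv_mul_cancel₀ ha, one_mul]
  have h3 : (2 • Q a : ZMod 3) = 2 * Q a := by rw [two_nsmul, two_mul]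
  rw [h3, h2] at h1
  have h4 : (3 : ZMod 3) • a = 0 := by
    have : (3 : ZMod 3) = 0 := by decide
    rw [this, zero_smul]
  have h5 : a = 0 := by
    have h6 : a - (2 : ZMod 3) • a = -a := by
      have : (2 : ZMod 3) = -1 + 3 := by decide
      rw [this, add_smul, h4, add_zero, neg_smul, one_smul, sub_neg_eq_add]
      have h7 : a + a = (2 : ZMod 3) • a := by rw [two_smul]
      have h8 : (2 : ZMod 3) • a = -a := by
        have : (2 : ZMod 3) = -1 + 3 := by decide
        rw [this, add_smul, h4, add_zero, neg_smul, one_smul]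
      rw [h7, h8]
    rw [h6] at h1
    have h7 : (2 : ZMod 3) • a = 0 := by
      rw [two_smul]
      nth_rewrite 1 [← h1]
      exact neg_add_cancel a
    have h8 : (2 : ZMod 3) ≠ 0 := by decide
    exact (smul_eq_zero.1 h7).resolve_left h8
  apply ha
  rw [h5, QuadraticMap.map_zero]

/-- RF60-CUBE -/
theorem tG_mul_tG_cube {c : ZMod 3} (hc : c ≠ 0) {u v : ι → ZMod 3} (hu : Q u = c) (hv : Q v = c)
    (hp : polar Q u v ≠ 0) : (tG Q u * tG Q v) ^ 3 = 1 := by
  have hu0 : Q u ≠ 0 := by rw [hu]; exact hc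
  have hv0 : Q v ≠ 0 := by rw [hv]; exact hc
  have haa := tG_mul_self Q hu0
  have hbb := tG_mul_self Q hv0
  have hb := tG_braid Q hc hu hv hp
  calc (tG Q u * tG Q v) ^ 3
      = (tG Q u * tG Q v * tG Q u) * (tG Q v * tG Q u * tG Q v) := by
        rw [pow_three']
        simp only [mul_assoc]
    _ = (tG Q v * tG Q u * tG Q v) * (tG Q v * tG Q u * tG Q v) := by rw [hb]
    _ = tG Q v * (tG Q u * ((tG Q v * tG Q v) * (tG Q u * tG Q v))) := by
        simp only [mul_assoc]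
    _ = 1 := by rw [hbb, one_mul, ← mul_assoc (tG Q u), haa, one_mul, hbb]

/-- RF60-CONJ -/
theorem conj_tG (g : ↥(Cfsg.isometryGroup (ZMod 3) (⇑Q))) {v : ι → ZMod 3} (hv : Q v ≠ 0) :
    g * tG Q v * g⁻¹ = tG Q (toEnd Q g v) := by
  rw [mul_tG Q g hv, mul_assoc, mul_inv_cancel, mul_one]

end Cfsg.Agent.Helper21.RF60
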