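import Mathlib
import Cfsg.Prelude.Def_FischerSpaces
import Cfsg.Prelude.Def_Solvable
import Cfsg.Prelude.Def_Local
import Cfsg.Prelude.Def_CaseTheorems
import Cfsg.Agent.Lib.Helper17.ReflThree
import Cfsg.Agent.Lib.RF60.RF60Basic

/-!
# S5360 piece RF60-CONN (helper22): the commuting graph of the reflections of norm `c` is connected
-/

set_option autoImplicit false

namespace Cfsg.Agent.Helper21.RF60
open Cfsg QuadraticMap Module
open Cfsg.Agent.Helper17.Spinor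

variable {ι : Type} [Fintype ι] [DecidableEq ι] (Q : QuadraticForm (ZMod 3) (ι → ZMod 3))

/-- RF60-CONN -/
theorem commutingGraph_connected {c : ZMod 3} (hc : c ≠ 0)
    (hex : ∃ v : ι → ZMod 3, Q v = c)
    (horth : ∀ u v : ι → ZMod 3, Q u = c → Q v = c →
      ∃ w : ι → ZMod 3, Q w = c ∧ polar Q u w = 0 ∧ polar Q v w = 0) :
    (Cfsg.commutingGraph {g : ↥(Cfsg.reflectionSubgroup (⇑Q) c) |
        (g : ↥(Cfsg.isometryGroup (ZMod 3) (⇑Q))) ∈ Cfsg.reflectionsOfNorm (⇑Q) c}).Connected := by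
  -- every vertex is a `tG`
  have rep : ∀ a : {g : ↥(Cfsg.reflectionSubgroup (⇑Q) c) |
        (g : ↥(Cfsg.isometryGroup (ZMod 3) (⇑Q))) ∈ Cfsg.reflectionsOfNorm (⇑Q) c},
      ∃ v : ι → ZMod 3, Q v = c ∧
        ((a : ↥(Cfsg.reflectionSubgroup (⇑Q) c)) : ↥(Cfsg.isometryGroup (ZMod 3) (⇑Q))) = tG Q v :=
    fun a => (mem_reflectionsOfNorm_iff Q hc _).1 a.2
  -- every `tG` is a vertex
  have mk : ∀ v : ι → ZMod 3, Q v = c →
      ∃ a : {g : ↥(Cfsg.reflectionSubgroup (⇑Q) c) |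
        (g : ↥(Cfsg.isometryGroup (ZMod 3) (⇑Q))) ∈ Cfsg.reflectionsOfNorm (⇑Q) c},
        ((a : ↥(Cfsg.reflectionSubgroup (⇑Q) c)) : ↥(Cfsg.isometryGroup (ZMod 3) (⇑Q))) = tG Q v := by
    intro v hv
    exact ⟨⟨⟨tG Q v, tG_mem_reflectionSubgroup Q hc hv⟩,
      (mem_reflectionsOfNorm_iff Q hc _).2 ⟨v, hv, rfl⟩⟩, rfl⟩
  -- adjacency of orthogonal reflections
  have adj : ∀ (a b : {g : ↥(Cfsg.reflectionSubgroup (⇑Q) c) |
        (g : ↥(Cfsg.isometryGroup (ZMod 3) (⇑Q))) ∈ Cfsg.reflectionsOfNorm (⇑Q) c})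
      (u w : ι → ZMod 3), Q u = c → Q w = c → polar Q u w = 0 →
      ((a : ↥(Cfsg.reflectionSubgroup (⇑Q) c)) : ↥(Cfsg.isometryGroup (ZMod 3) (⇑Q))) = tG Q u →
      ((b : ↥(Cfsg.reflectionSubgroup (⇑Q) c)) : ↥(Cfsg.isometryGroup (ZMod 3) (⇑Q))) = tG Q w →
      (Cfsg.commutingGraph {g : ↥(Cfsg.reflectionSubgroup (⇑Q) c) |
        (g : ↥(Cfsg.isometryGroup (ZMod 3) (⇑Q))) ∈ Cfsg.reflectionsOfNorm (⇑Q) c}).Adj a b := by
    intro a b u w hu hw hp ha hb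
    have hu0 : Q u ≠ 0 := by rw [hu]; exact hc
    have hw0 : Q w ≠ 0 := by rw [hw]; exact hc
    unfold Cfsg.commutingGraph
    rw [SimpleGraph.fromRel_adj]
    refine ⟨?_, Or.inl ?_⟩
    · intro hab
      apply tG_ne_of_orth Q hu0 hw0 hp
      rw [← ha, ← hb, hab]
    · change (a : ↥(Cfsg.reflectionSubgroup (⇑Q) c)) * (b : ↥(Cfsg.reflectionSubgroup (⇑Q) c)) =
        (b : ↥(Cfsg.reflectionSubgroup (⇑Q) c)) * (a : ↥(Cfsg.reflectionSubgroup (⇑Q) c))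
      apply Subtype.ext
      rw [Subgroup.coe_mul, Subgroup.coe_mul, ha, hb]
      exact tG_comm_of_polar_eq_zero Q hu0 hw0 hp
  rw [SimpleGraph.connected_iff]
  refine ⟨?_, ?_⟩
  · intro a b
    obtain ⟨u, hu, ha⟩ := rep a
    obtain ⟨v, hv, hb⟩ := rep b
    obtain ⟨w, hw, huw, hvw⟩ := horth u v hu hv
    obtain ⟨m, hm⟩ := mk w hw
    have h1 := adj a m u w hu hw huw ha hm
    have h2 := adj b m v w hv hw hvw hb hm
    exact h1.reachable.trans h2.symm.reachable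
  · obtain ⟨v, hv⟩ := hex
    obtain ⟨a, -⟩ := mk v hv
    exact ⟨a⟩

end Cfsg.Agent.Helper21.RF60
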