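import Mathlib
import Cfsg.Prelude.Def_FischerSpaces
import Cfsg.Prelude.Def_Solvable
import Cfsg.Prelude.Def_Local
import Cfsg.Prelude.Def_CaseTheorems
import Cfsg.Agent.Lib.Helper17.ReflThree

/-!
# S5360 piece RF60-GEO2: a nonzero singular vector orthogonal to two orthogonal vectors of norm `c`
-/

set_option autoImplicit false

namespace Cfsg.Agent.Helper21.RF60
open Cfsg QuadraticMap Module
open Cfsg.Agent.Helper17.Spinor

variable {ι : Type} [Fintype ι] [DecidableEq ι] (Q : QuadraticForm (ZMod 3) (ι → ZMod 3))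

/-- RF60-GEO2 -/
theorem exists_singular_orth (hQ : (polarBilin Q).Nondegenerate) (hn : 5 ≤ Fintype.card ι)
    {c : ZMod 3} (hc : c ≠ 0) (u v : ι → ZMod 3) (hu : Q u = c) (hv : Q v = c)
    (hp : polar Q u v = 0) :
    ∃ y : ι → ZMod 3, y ≠ 0 ∧ Q y = 0 ∧ polar Q u y = 0 ∧ polar Q v y = 0 := by
  -- first step: `y1 ⟂ u, v` of norm `c`
  set X : Submodule (ZMod 3) (ι → ZMod 3) := Submodule.span (ZMod 3) {u, v} with hXdef
  have huX : u ∈ X := Submodule.subset_span (by simp)
  have hvX : v ∈ X := Submodule.subset_span (by simp)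
  have hX : X ⊓ LinearMap.BilinForm.orthogonal (polarBilin Q) X = ⊥ := by
    rw [eq_bot_iff]
    rintro x ⟨hx1, hx2⟩
    rw [SetLike.mem_coe, hXdef, Submodule.mem_span_pair] at hx1
    obtain ⟨a, b, rfl⟩ := hx1
    rw [SetLike.mem_coe, mem_orthogonal_iff'] at hx2
    have h1 := hx2 u huX
    have h2 := hx2 v hvX
    rw [polar_add_right, polar_smul_right, polar_smul_right, polar_self, hu, hp] at h1
    rw [polar_add_right, polar_smul_right, polar_smul_right, polar_self, hv, polar_comm Q v u,
      hp] at h2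
    simp only [smul_eq_mul, mul_zero, add_zero, zero_add] at h1 h2
    have ha : a = 0 := by
      rcases mul_eq_zero.1 h1 with h | h
      · exact h
      · exact absurd h (zmod_three_two_nsmul_ne_zero hc)
    have hb : b = 0 := by
      rcases mul_eq_zero.1 h2 with h | h
      · exact h
      · exact absurd h (zmod_three_two_nsmul_ne_zero hc)
    rw [ha, hb, zero_smul, zero_smul, add_zero]
    exact Submodule.zero_mem _
  have hdim : finrank (ZMod 3) ↥X + 2 ≤ Fintype.card ι := by
    have : finrank (ZMod 3) ↥X ≤ 2 := finrank_span_pair_le u v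
    omega
  obtain ⟨y1, hy1X, hy1⟩ := exists_orth_Q_eq Q hQ zmod_three_two_ne_zero X hX hdim hc
  have huy1 : polar Q u y1 = 0 := hy1X u huX
  have hvy1 : polar Q v y1 = 0 := hy1X v hvX
  -- second step: `y2 ⟂ u, v, y1` of norm `-c`
  set X' : Submodule (ZMod 3) (ι → ZMod 3) := Submodule.span (ZMod 3) {u, v, y1} with hX'def
  have huX' : u ∈ X' := Submodule.subset_span (by simp)
  have hvX' : v ∈ X' := Submodule.subset_span (by simp)
  have hyX' : y1 ∈ X' := Submodule.subset_span (by simp)
  have hX' : X' ⊓ LinearMap.BilinForm.orthogonal (polarBilin Q) X' = ⊥ := by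
    rw [eq_bot_iff]
    rintro x ⟨hx1, hx2⟩
    rw [SetLike.mem_coe, hX'def, Submodule.mem_span_triple] at hx1
    obtain ⟨a, b, d, rfl⟩ := hx1
    rw [SetLike.mem_coe, mem_orthogonal_iff'] at hx2
    have h1 := hx2 u huX'
    have h2 := hx2 v hvX'
    have h3 := hx2 y1 hyX'
    rw [polar_add_right, polar_add_right, polar_smul_right, polar_smul_right, polar_smul_right,
      polar_self, hu, hp, huy1] at h1
    rw [polar_add_right, polar_add_right, polar_smul_right, polar_smul_right, polar_smul_right,
      polar_self, hv, polar_comm Q v u, hp, hvy1] at h2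
    rw [polar_add_right, polar_add_right, polar_smul_right, polar_smul_right, polar_smul_right,
      polar_self, hy1, polar_comm Q y1 u, huy1, polar_comm Q y1 v, hvy1] at h3
    simp only [smul_eq_mul, mul_zero, add_zero, zero_add] at h1 h2 h3
    have ha : a = 0 := by
      rcases mul_eq_zero.1 h1 with h | h
      · exact h
      · exact absurd h (zmod_three_two_nsmul_ne_zero hc)
    have hb : b = 0 := by
      rcases mul_eq_zero.1 h2 with h | h
      · exact h
      · exact absurd h (zmod_three_two_nsmul_ne_zero hc)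
    have hd : d = 0 := by
      rcases mul_eq_zero.1 h3 with h | h
      · exact h
      · exact absurd h (zmod_three_two_nsmul_ne_zero hc)
    rw [ha, hb, hd, zero_smul, zero_smul, zero_smul, add_zero, add_zero]
    exact Submodule.zero_mem _
  have hdim' : finrank (ZMod 3) ↥X' + 2 ≤ Fintype.card ι := by
    have : finrank (ZMod 3) ↥X' ≤ 3 := finrank_span_triple_le u v y1
    omega
  obtain ⟨y2, hy2X, hy2⟩ := exists_orth_Q_eq Q hQ zmod_three_two_ne_zero X' hX' hdim'
    (neg_ne_zero.2 hc)
  have huy2 : polar Q u y2 = 0 := hy2X u huX'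
  have hvy2 : polar Q v y2 = 0 := hy2X v hvX'
  have hy12 : polar Q y1 y2 = 0 := hy2X y1 hyX'
  refine ⟨y1 + y2, ?_, ?_, ?_, ?_⟩
  · intro h0
    have h := zmod_three_two_nsmul_ne_zero hc
    apply h
    have h1 : polar Q y1 (y1 + y2) = 2 • c := by
      rw [polar_add_right, polar_self, hy1, hy12, add_zero]
    rw [← h1, h0, polar_zero_right]
  · rw [Q_add Q, hy1, hy2, hy12]
    ring
  · rw [polar_add_right, huy1, huy2, add_zero]
  · rw [polar_add_right, hvy1, hvy2, add_zero]

end Cfsg.Agent.Helper21.RF60
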