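import Mathlib
import Cfsg.Prelude.Def_FischerSpaces
import Cfsg.Prelude.Def_Solvable
import Cfsg.Prelude.Def_Local
import Cfsg.Prelude.Def_CaseTheorems
import Cfsg.Agent.Lib.Helper17.ReflThree

set_option autoImplicit false

namespace Cfsg.Agent.Helper21.RF60
open Cfsg QuadraticMap Module
open Cfsg.Agent.Helper17.Spinor

variable {ι : Type} [Fintype ι] [DecidableEq ι] (Q : QuadraticForm (ZMod 3) (ι → ZMod 3))

/-- RF60-GEO3 -/
theorem exists_orth_not_orth (hQ : (polarBilin Q).Nondegenerate)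
    {c : ZMod 3} (hc : c ≠ 0) (v z : ι → ZMod 3) (hv : Q v = c) (hz : z ≠ 0) (hQz : Q z = 0)
    (hvz : polar Q v z = 0) :
    ∃ w : ι → ZMod 3, Q w = c ∧ polar Q v w = 0 ∧ polar Q w z ≠ 0 := by
  have h2 : (2 : ZMod 3) ≠ 0 := by decide
  have h2c : (2 : ZMod 3) * c ≠ 0 := mul_ne_zero h2 hc
  obtain ⟨t0, ht0⟩ : ∃ t0, polar Q z t0 ≠ 0 := by
    by_contra hcon
    push Not at hcon
    apply hz
    apply hQ.1
    intro y
    rw [polarBilin_apply_apply]
    exact hcon y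
  obtain ⟨β, hβ⟩ : ∃ β : ZMod 3, β = (2 * c)⁻¹ * polar Q v t0 := ⟨_, rfl⟩
  obtain ⟨t, ht⟩ : ∃ t : ι → ZMod 3, t = t0 - β • v := ⟨_, rfl⟩
  have hzv : polar Q z v = 0 := by rw [polar_comm]; exact hvz
  have hvt : polar Q v t = 0 := by
    rw [ht, polar_sub_right, polar_smul_right, polar_self, hv, smul_eq_mul, two_smul, ← two_mul, hβ]
    field_simp
    ring
  have hzt : polar Q z t = polar Q z t0 := by
    rw [ht, polar_sub_right, polar_smul_right, hzv, smul_zero, sub_zero]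
  obtain ⟨q, hq⟩ : ∃ q : ZMod 3, q = polar Q z t := ⟨_, rfl⟩
  have hq0 : q ≠ 0 := by rw [hq, hzt]; exact ht0
  have htz : polar Q t z = q := by rw [polar_comm, hq]
  obtain ⟨l, hl⟩ : ∃ l : ZMod 3, l = q⁻¹ * (c - Q t) := ⟨_, rfl⟩
  refine ⟨t + l • z, ?_, ?_, ?_⟩
  · have h1 : Q (t + l • z) = Q t + Q (l • z) + polar Q t (l • z) := by
      unfold polar
      ring
    rw [h1, QuadraticMap.map_smul, hQz, smul_zero, add_zero, polar_smul_right, htz, smul_eq_mul, hl]
    field_simp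
    ring
  · rw [polar_add_right, polar_smul_right, hvt, hvz, smul_zero, add_zero]
  · rw [polar_add_left, polar_smul_left, polar_self, hQz, htz]
    simpa using hq0

end Cfsg.Agent.Helper21.RF60
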