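import Mathlib
import Cfsg.Prelude.Def_FischerSpaces
import Cfsg.Prelude.Def_Solvable
import Cfsg.Prelude.Def_Local
import Cfsg.Prelude.Def_CaseTheorems
import Cfsg.Agent.Lib.Helper17.ReflThree

/-!
# S5360 piece RF60-LCOMM: a normal perfect subgroup of index at most 2 is the commutator subgroup
-/

set_option autoImplicit false

namespace Cfsg.Agent.Helper21.RF60
open Cfsg QuadraticMap Module
open Cfsg.Agent.Helper17.Spinor

/-- RF60-LCOMM -/
theorem eq_commutator_of_perfect_of_index_le_two {G : Type*} [Group G] [Finite G]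
    (L : Subgroup G) [L.Normal] (hperf : Group.IsPerfect ↥L) (hidx : L.index ≤ 2) :
    L = commutator G := by
  apply le_antisymm
  · have h1 : ⁅L, L⁆ = L := (Subgroup.isPerfect_iff (H := L)).1 hperf
    calc L = ⁅L, L⁆ := h1.symm
      _ ≤ ⁅(⊤ : Subgroup G), ⊤⁆ := Subgroup.commutator_mono le_top le_top
      _ = commutator G := (commutator_def G).symm
  · rw [← Subgroup.Normal.quotient_commutative_iff_commutator_le]
    have hcard : Nat.card (G ⧸ L) ∣ 2 := by
      have h0 : L.index ≠ 0 := Subgroup.index_ne_zero_of_finite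
      have : Nat.card (G ⧸ L) = L.index := rfl
      rw [this]
      interval_cases h : L.index
      · exact absurd rfl h0
      · exact one_dvd _
      · exact dvd_rfl
    haveI : Fact (Nat.Prime 2) := ⟨Nat.prime_two⟩
    haveI : IsCyclic (G ⧸ L) := isCyclic_of_card_dvd_prime (p := 2) hcard
    exact ⟨⟨fun a b => IsCyclic.commGroup.mul_comm a b⟩⟩
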