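import Mathlib
import Cfsg.Prelude.Def_FischerSpaces
import Cfsg.Prelude.Def_Solvable
import Cfsg.Prelude.Def_Local
import Cfsg.Prelude.Def_CaseTheorems
import Cfsg.Agent.Lib.Helper17.ReflThree

/-!
# RF60-ORTH2 (helper27, for helper21's S5360)

In a non-degenerate quadratic space of dimension at least five over the field with three
elements, a vector of norm `c` and an arbitrary vector have a common perpendicular of norm `c`.
-/

set_option autoImplicit false
set_option linter.unusedSectionVars false

namespace Cfsg.Agent.Helper21.RF60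
open Cfsg QuadraticMap Module
open Cfsg.Agent.Helper17.Spinor

variable {ι : Type} [Fintype ι] [DecidableEq ι] (Q : QuadraticForm (ZMod 3) (ι → ZMod 3))

/-- a common perpendicular of norm `c` to two vectors of a small non-degenerate subspace -/
theorem rf60_orth2_of_sub (hQ : (polarBilin Q).Nondegenerate) (hn : 5 ≤ Fintype.card ι)
    {c : ZMod 3} (hc : c ≠ 0) (X : Submodule (ZMod 3) (ι → ZMod 3))
    (hX : X ⊓ LinearMap.BilinForm.orthogonal (polarBilin Q) X = ⊥)
    (hdim : finrank (ZMod 3) ↥X ≤ 3) {u v : ι → ZMod 3} (hu : u ∈ X) (hv : v ∈ X) :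
    ∃ w : ι → ZMod 3, Q w = c ∧ polar Q u w = 0 ∧ polar Q v w = 0 := by
  have hdim' : finrank (ZMod 3) ↥X + 2 ≤ Fintype.card ι := by omega
  obtain ⟨y, hyX, hy⟩ := exists_orth_Q_eq Q hQ zmod_three_two_ne_zero X hX hdim' hc
  exact ⟨y, hy, hyX u hu, hyX v hv⟩

/-- the line of a non-singular vector is non-degenerate -/
theorem rf60_orth2_single {c : ZMod 3} (hc : c ≠ 0) {u : ι → ZMod 3} (hu : Q u = c) :
    Submodule.span (ZMod 3) {u} ⊓
      LinearMap.BilinForm.orthogonal (polarBilin Q) (Submodule.span (ZMod 3) {u}) = ⊥ := by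
  rw [eq_bot_iff]
  rintro x ⟨hx1, hx2⟩
  rw [SetLike.mem_coe, Submodule.mem_span_singleton] at hx1
  obtain ⟨k, rfl⟩ := hx1
  rw [SetLike.mem_coe, mem_orthogonal_iff'] at hx2
  have h1 := hx2 u (Submodule.mem_span_singleton_self u)
  rw [polar_smul_right, polar_self, hu] at h1
  simp only [smul_eq_mul] at h1
  rcases mul_eq_zero.1 h1 with h | h
  · rw [h, zero_smul]; exact Submodule.zero_mem _
  · exact absurd h (zmod_three_two_nsmul_ne_zero hc)

/-- the plane of two orthogonal non-singular vectors is non-degenerate -/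
theorem rf60_orth2_pair {c : ZMod 3} (hc : c ≠ 0) {u s : ι → ZMod 3} (hu : Q u = c)
    (hs : Q s ≠ 0) (hp : polar Q u s = 0) :
    Submodule.span (ZMod 3) {u, s} ⊓
      LinearMap.BilinForm.orthogonal (polarBilin Q) (Submodule.span (ZMod 3) {u, s}) = ⊥ := by
  rw [eq_bot_iff]
  rintro x ⟨hx1, hx2⟩
  rw [SetLike.mem_coe, Submodule.mem_span_pair] at hx1
  obtain ⟨a, b, rfl⟩ := hx1
  rw [SetLike.mem_coe, mem_orthogonal_iff'] at hx2
  have h1 := hx2 u (Submodule.subset_span (by simp))
  have h2 := hx2 s (Submodule.subset_span (by simp))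
  rw [polar_add_right, polar_smul_right, polar_smul_right, polar_self, hu, hp] at h1
  rw [polar_add_right, polar_smul_right, polar_smul_right, polar_self, polar_comm Q s u,
    hp] at h2
  simp only [smul_eq_mul, mul_zero, add_zero, zero_add] at h1 h2
  have ha : a = 0 := by
    rcases mul_eq_zero.1 h1 with h | h
    · exact h
    · exact absurd h (zmod_three_two_nsmul_ne_zero hc)
  have hb : b = 0 := by
    rcases mul_eq_zero.1 h2 with h | h
    · exact h
    · exact absurd h (zmod_three_two_nsmul_ne_zero hs)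
  rw [ha, hb, zero_smul, zero_smul, add_zero]
  exact Submodule.zero_mem _

/-- the span of a non-singular vector, a singular vector orthogonal to it and a partner of the
latter orthogonal to the former is non-degenerate -/
theorem rf60_orth2_triple {c : ZMod 3} (hc : c ≠ 0) {u s t : ι → ZMod 3} (hu : Q u = c)
    (hs : Q s = 0) (hus : polar Q u s = 0) (hut : polar Q u t = 0) (hst : polar Q s t ≠ 0) :
    Submodule.span (ZMod 3) {u, s, t} ⊓
      LinearMap.BilinForm.orthogonal (polarBilin Q) (Submodule.span (ZMod 3) {u, s, t}) = ⊥ := by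
  rw [eq_bot_iff]
  rintro x ⟨hx1, hx2⟩
  rw [SetLike.mem_coe, Submodule.mem_span_triple] at hx1
  obtain ⟨a, b, d, rfl⟩ := hx1
  rw [SetLike.mem_coe, mem_orthogonal_iff'] at hx2
  have h1 := hx2 u (Submodule.subset_span (by simp))
  have h2 := hx2 s (Submodule.subset_span (by simp))
  have h3 := hx2 t (Submodule.subset_span (by simp))
  rw [polar_add_right, polar_add_right, polar_smul_right, polar_smul_right,
    polar_smul_right, polar_self, hu, hus, hut] at h1
  rw [polar_add_right, polar_add_right, polar_smul_right, polar_smul_right,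
    polar_smul_right, polar_self, hs, polar_comm Q s u, hus] at h2
  rw [polar_add_right, polar_add_right, polar_smul_right, polar_smul_right,
    polar_smul_right, polar_comm Q t u, hut, polar_comm Q t s] at h3
  simp only [smul_eq_mul, mul_zero, add_zero, zero_add, smul_zero] at h1 h2 h3
  have ha : a = 0 := by
    rcases mul_eq_zero.1 h1 with h | h
    · exact h
    · exact absurd h (zmod_three_two_nsmul_ne_zero hc)
  have hd : d = 0 := by
    rcases mul_eq_zero.1 h2 with h | h
    · exact h
    · exact absurd h hst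
  rw [hd, zero_mul, add_zero] at h3
  have hb : b = 0 := by
    rcases mul_eq_zero.1 h3 with h | h
    · exact h
    · exact absurd h hst
  rw [ha, hb, hd, zero_smul, zero_smul, zero_smul, add_zero, add_zero]
  exact Submodule.zero_mem _

theorem rf60_orth2_finrank_single (u : ι → ZMod 3) :
    finrank (ZMod 3) ↥(Submodule.span (ZMod 3) ({u} : Set (ι → ZMod 3))) ≤ 3 := by
  have h := finrank_span_pair_le u u
  rw [Set.pair_eq_singleton] at h
  omega

/-- RF60-ORTH2 -/
theorem exists_orth_both (hQ : (polarBilin Q).Nondegenerate) (hn : 5 ≤ Fintype.card ι)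
    {c : ZMod 3} (hc : c ≠ 0) (u v : ι → ZMod 3) (hu : Q u = c) :
    ∃ w : ι → ZMod 3, Q w = c ∧ polar Q u w = 0 ∧ polar Q v w = 0 := by
  have h2c : (2 • c : ZMod 3) ≠ 0 := zmod_three_two_nsmul_ne_zero hc
  obtain ⟨α, hα⟩ : ∃ α : ZMod 3, α = polar Q u v * (2 • c)⁻¹ := ⟨_, rfl⟩
  obtain ⟨s, hsdef⟩ : ∃ s : ι → ZMod 3, s = v - α • u := ⟨_, rfl⟩
  have hv : v = s + α • u := by rw [hsdef]; abel
  have hus : polar Q u s = 0 := by
    rw [hsdef, polar_sub_right, polar_smul_right, polar_self, hu, hα, smul_eq_mul, mul_assoc,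
      inv_mul_cancel₀ h2c, mul_one, sub_self]
  by_cases hs0 : s = 0
  · -- the vector `v` is a multiple of `u`
    have huX : u ∈ Submodule.span (ZMod 3) ({u} : Set (ι → ZMod 3)) :=
      Submodule.mem_span_singleton_self u
    have hvX : v ∈ Submodule.span (ZMod 3) ({u} : Set (ι → ZMod 3)) := by
      rw [hv, hs0, zero_add]
      exact Submodule.smul_mem _ _ huX
    exact rf60_orth2_of_sub Q hQ hn hc _ (rf60_orth2_single Q hc hu)
      (rf60_orth2_finrank_single u) huX hvX
  by_cases hQs : Q s = 0
  · -- the singular case: complete `s` to a hyperbolic pair orthogonal to `u`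
    obtain ⟨t0, ht0⟩ : ∃ t0 : ι → ZMod 3, polar Q s t0 ≠ 0 := by
      by_contra hcon
      push Not at hcon
      exact hs0 (hQ.1 s (fun y => hcon y))
    obtain ⟨β, hβ⟩ : ∃ β : ZMod 3, β = polar Q u t0 * (2 • c)⁻¹ := ⟨_, rfl⟩
    obtain ⟨t, htdef⟩ : ∃ t : ι → ZMod 3, t = t0 - β • u := ⟨_, rfl⟩
    have hut : polar Q u t = 0 := by
      rw [htdef, polar_sub_right, polar_smul_right, polar_self, hu, hβ, smul_eq_mul, mul_assoc,
        inv_mul_cancel₀ h2c, mul_one, sub_self]
    have hst : polar Q s t ≠ 0 := by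
      rw [htdef, polar_sub_right, polar_smul_right, polar_comm Q s u, hus, smul_zero, sub_zero]
      exact ht0
    have huX : u ∈ Submodule.span (ZMod 3) ({u, s, t} : Set (ι → ZMod 3)) :=
      Submodule.subset_span (by simp)
    have hsX : s ∈ Submodule.span (ZMod 3) ({u, s, t} : Set (ι → ZMod 3)) :=
      Submodule.subset_span (by simp)
    have hvX : v ∈ Submodule.span (ZMod 3) ({u, s, t} : Set (ι → ZMod 3)) := by
      rw [hv]
      exact Submodule.add_mem _ hsX (Submodule.smul_mem _ _ huX)
    exact rf60_orth2_of_sub Q hQ hn hc _ (rf60_orth2_triple Q hc hu hQs hus hut hst)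
      (finrank_span_triple_le u s t) huX hvX
  · -- the non-singular case
    have huX : u ∈ Submodule.span (ZMod 3) ({u, s} : Set (ι → ZMod 3)) :=
      Submodule.subset_span (by simp)
    have hsX : s ∈ Submodule.span (ZMod 3) ({u, s} : Set (ι → ZMod 3)) :=
      Submodule.subset_span (by simp)
    have hvX : v ∈ Submodule.span (ZMod 3) ({u, s} : Set (ι → ZMod 3)) := by
      rw [hv]
      exact Submodule.add_mem _ hsX (Submodule.smul_mem _ _ huX)
    exact rf60_orth2_of_sub Q hQ hn hc _ (rf60_orth2_pair Q hc hu hQs hus)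
      ((finrank_span_pair_le u s).trans (by norm_num)) huX hvX

end Cfsg.Agent.Helper21.RF60
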