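import Mathlib
import Cfsg.Prelude.Def_FischerSpaces
import Cfsg.Prelude.Def_Solvable
import Cfsg.Prelude.Def_Local
import Cfsg.Prelude.Def_CaseTheorems
import Cfsg.Agent.Lib.Helper17.ReflThree

/-!
# S5360 piece RF60-P2: `commute_of_two_group`
-/

set_option autoImplicit false

namespace Cfsg.Agent.Helper21.RF60
open Cfsg QuadraticMap Module
open Cfsg.Agent.Helper17.Spinor

variable {ι : Type} [Fintype ι] [DecidableEq ι] (Q : QuadraticForm (ZMod 3) (ι → ZMod 3))

/-- the product of two reflections of the same norm in non-orthogonal vectors has order dividing 3 -/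
theorem rf60_p2_cube {c : ZMod 3} (hc : c ≠ 0) {u v : ι → ZMod 3} (hu : Q u = c) (hv : Q v = c)
    (hp : polar Q u v ≠ 0) : (tG Q u * tG Q v) ^ 3 = 1 := by
  have hu0 : Q u ≠ 0 := by rw [hu]; exact hc
  have hv0 : Q v ≠ 0 := by rw [hv]; exact hc
  have haa := tG_mul_self Q hu0
  have hbb := tG_mul_self Q hv0
  have hb := tG_braid Q hc hu hv hp
  calc (tG Q u * tG Q v) ^ 3
      = (tG Q u * tG Q v * tG Q u) * (tG Q v * tG Q u * tG Q v) := by
        rw [pow_three']
        simp only [mul_assoc]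
    _ = (tG Q v * tG Q u * tG Q v) * (tG Q v * tG Q u * tG Q v) := by rw [hb]
    _ = tG Q v * (tG Q u * ((tG Q v * tG Q v) * (tG Q u * tG Q v))) := by
        simp only [mul_assoc]
    _ = 1 := by rw [hbb, one_mul, ← mul_assoc (tG Q u), haa, one_mul, hbb]

/-- an element of a 2-group whose cube is trivial is trivial -/
theorem rf60_p2_eq_one_of_cube {G : Type*} [Group G] (T : Subgroup G) (hT : IsPGroup 2 ↥T)
    (g : G) (hg : g ∈ T) (h3 : g ^ 3 = 1) : g = 1 := by
  obtain ⟨k, hk⟩ := hT ⟨g, hg⟩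
  have hk' : g ^ (2 ^ k) = 1 := by
    have := congrArg Subtype.val hk
    simpa using this
  have h1 : orderOf g ∣ 3 := orderOf_dvd_of_pow_eq_one h3
  have h2 : orderOf g ∣ 2 ^ k := orderOf_dvd_of_pow_eq_one hk'
  have hcop : Nat.Coprime 3 (2 ^ k) := Nat.Coprime.pow_right k (by norm_num)
  have h4 : orderOf g ∣ 1 := by
    have := Nat.dvd_gcd h1 h2
    rwa [hcop] at this
  exact orderOf_eq_one_iff.1 (Nat.dvd_one.1 h4)

theorem rf60_p2_scalar {c : ZMod 3} (hc : c ≠ 0) : c⁻¹ * (2 * c) = 2 := by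
  rw [zmod_three_inv hc]
  calc c * (2 * c) = 2 * (c * c) := by ring
    _ = 2 := by rw [zmod_three_mul_self hc, mul_one]

theorem rf60_p2_vec1 (a b : ZMod 3) : a - 2 * (a + b) = -(a - b) := by
  revert a b; decide

theorem rf60_p2_vec2 (a b : ZMod 3) (h : a - 2 * (a - b) = a - 2 * a) : b = 0 := by
  revert a b; decide

/-- RF60-P2 -/
theorem commute_of_two_group {c : ZMod 3} (hc : c ≠ 0)
    (hgeo : ∀ u v : ι → ZMod 3, Q u = c → Q v = c → polar Q u v = 0 →
      ∃ y : ι → ZMod 3, y ≠ 0 ∧ Q y = 0 ∧ polar Q u y = 0 ∧ polar Q v y = 0)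
    (T : Subgroup ↥(Cfsg.isometryGroup (ZMod 3) (⇑Q))) (hT : IsPGroup 2 ↥T)
    (hnorm : ∀ v : ι → ZMod 3, Q v = c → ∀ t ∈ T, tG Q v * t * (tG Q v)⁻¹ ∈ T)
    (t : ↥(Cfsg.isometryGroup (ZMod 3) (⇑Q))) (ht : t ∈ T) (v : ι → ZMod 3) (hv : Q v = c) :
    t * tG Q v = tG Q v * t := by
  have hv0 : Q v ≠ 0 := by rw [hv]; exact hc
  set v' : ι → ZMod 3 := toEnd Q t v with hv'def
  have hv'Q : Q v' = c := by rw [hv'def, toEnd_isometry]; exact hv
  have hv'0 : Q v' ≠ 0 := by rw [hv'Q]; exact hc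
  have hconj : t * tG Q v = tG Q v' * t := mul_tG Q t hv0
  have hdinv : (tG Q v)⁻¹ = tG Q v := tG_inv Q hv0
  have hdd : tG Q v * tG Q v = 1 := tG_mul_self Q hv0
  -- `x = d * d' ∈ T`
  have hd' : tG Q v' = t * tG Q v * t⁻¹ := by
    rw [hconj]; group
  have hxT : tG Q v * tG Q v' ∈ T := by
    have e : tG Q v * tG Q v' = (tG Q v * t * (tG Q v)⁻¹) * t⁻¹ := by
      rw [hd', hdinv]; group
    rw [e]
    exact T.mul_mem (hnorm v hv t ht) (T.inv_mem ht)
  suffices hsuff : tG Q v' = tG Q v by rw [hconj, hsuff]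
  by_cases hp : polar Q v v' = 0
  · exfalso
    obtain ⟨y, hy0, hQy, hvy, hv'y⟩ := hgeo v v' hv hv'Q hp
    -- the vector `w = v + y`
    have hQw : Q (v + y) = c := by rw [Q_add Q, hv, hQy, hvy]; ring
    have hw0 : Q (v + y) ≠ 0 := by rw [hQw]; exact hc
    have hwv' : polar Q (v + y) v' = 0 := by
      rw [polar_add_left, hp, polar_comm Q y v', hv'y, add_zero]
    have hpvv : polar Q v v = 2 * c := by
      rw [polar_self, hv]
      exact (two_nsmul c).trans (two_mul c).symm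
    have hwv : polar Q (v + y) v = 2 * c := by
      rw [polar_add_left, hpvv, polar_comm Q y v, hvy, add_zero]
    -- the vector `u = v - y`
    have hQu : Q (v - y) = c := by rw [Q_sub Q, hv, hQy, hvy]; ring
    have hu0 : Q (v - y) ≠ 0 := by rw [hQu]; exact hc
    have hvu : polar Q v (v - y) = 2 * c := by
      rw [polar_sub_right, hpvv, hvy, sub_zero]
    have hvu0 : polar Q v (v - y) ≠ 0 := by
      rw [hvu]; exact mul_ne_zero zmod_three_two_ne_zero hc
    -- `e v = -(v - y)`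
    have hev : toEnd Q (tG Q (v + y)) v = -(v - y) := by
      rw [toEnd_tG Q hw0, refl_apply, hQw, hwv, rf60_p2_scalar hc]
      funext i
      simp only [Pi.sub_apply, Pi.smul_apply, Pi.add_apply, Pi.neg_apply, smul_eq_mul]
      exact rf60_p2_vec1 (v i) (y i)
    have hed : tG Q (v + y) * tG Q v = tG Q (v - y) * tG Q (v + y) := by
      have := mul_tG Q (tG Q (v + y)) hv0
      rw [hev, tG_neg] at this
      exact this
    have hed' : tG Q (v + y) * tG Q v' = tG Q v' * tG Q (v + y) :=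
      tG_comm_of_polar_eq_zero Q hw0 hv'0 hwv'
    have hex : tG Q (v + y) * (tG Q v * tG Q v') * (tG Q (v + y))⁻¹ = tG Q (v - y) * tG Q v' := by
      calc tG Q (v + y) * (tG Q v * tG Q v') * (tG Q (v + y))⁻¹
          = (tG Q (v + y) * tG Q v) * tG Q v' * (tG Q (v + y))⁻¹ := by group
        _ = tG Q (v - y) * (tG Q (v + y) * tG Q v') * (tG Q (v + y))⁻¹ := by rw [hed]; group
        _ = tG Q (v - y) * (tG Q v' * tG Q (v + y)) * (tG Q (v + y))⁻¹ := by rw [hed']
        _ = tG Q (v - y) * tG Q v' := by group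
    have hexT : tG Q (v - y) * tG Q v' ∈ T := by
      rw [← hex]
      exact hnorm (v + y) hQw _ hxT
    have hzT : tG Q v * tG Q (v - y) ∈ T := by
      have e : tG Q v * tG Q (v - y) = (tG Q v * tG Q v') * (tG Q (v - y) * tG Q v')⁻¹ := by
        rw [mul_inv_rev, tG_inv Q hu0]; group
      rw [e]
      exact T.mul_mem hxT (T.inv_mem hexT)
    have hz3 := rf60_p2_cube Q hc hv hQu hvu0
    have hz1 := rf60_p2_eq_one_of_cube T hT _ hzT hz3
    have hueq : tG Q (v - y) = tG Q v := by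
      have := eq_inv_of_mul_eq_one_right hz1
      rw [this, hdinv]
    have hend : toEnd Q (tG Q (v - y)) v = toEnd Q (tG Q v) v := by rw [hueq]
    rw [toEnd_tG Q hu0, toEnd_tG Q hv0, refl_apply, refl_apply, hQu, hv, polar_comm Q (v - y) v,
      hvu, hpvv, rf60_p2_scalar hc] at hend
    apply hy0
    funext i
    have hi := congrFun hend i
    simp only [Pi.sub_apply, Pi.smul_apply, smul_eq_mul] at hi
    exact rf60_p2_vec2 (v i) (y i) hi
  · have hx3 := rf60_p2_cube Q hc hv hv'Q hp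
    have hx1 := rf60_p2_eq_one_of_cube T hT _ hxT hx3
    have := eq_inv_of_mul_eq_one_right hx1
    rw [this, hdinv]

end Cfsg.Agent.Helper21.RF60
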