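import Mathlib
import Cfsg.Prelude.Def_FischerSpaces
import Cfsg.Prelude.Def_Solvable
import Cfsg.Prelude.Def_Local
import Cfsg.Prelude.Def_CaseTheorems
import Cfsg.Agent.Lib.Helper17.ReflThree
import Cfsg.Agent.Lib.RF60.RF60Basic

/-! S5360 farm-out (designer helper21), piece RF60-P3: a 3-subgroup normalized by all reflections of
norm `c` is centralized by them. -/

set_option autoImplicit false

namespace Cfsg.Agent.Helper21.RF60
open Cfsg QuadraticMap Module
open Cfsg.Agent.Helper17.Spinor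

variable {ι : Type} [Fintype ι] [DecidableEq ι] (Q : QuadraticForm (ZMod 3) (ι → ZMod 3))

theorem rf60_p3_sq_of_comm {G : Type*} [Monoid G] (a b : G) (ha : a * a = 1) (hb : b * b = 1)
    (hab : a * b = b * a) : (a * b) ^ 2 = 1 := by
  rw [pow_two]
  calc a * b * (a * b) = a * (b * a) * b := by simp only [mul_assoc]
    _ = a * (a * b) * b := by rw [hab]
    _ = (a * a) * (b * b) := by simp only [mul_assoc]
    _ = 1 := by rw [ha, hb, one_mul]

theorem rf60_p3_eq_one_of_sq {G : Type*} [Group G] (T : Subgroup G) (hT : IsPGroup 3 ↥T) (x : G)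
    (hx : x ∈ T) (h2 : x ^ 2 = 1) : x = 1 := by
  obtain ⟨k, hk⟩ := hT ⟨x, hx⟩
  have hk' : x ^ (3 ^ k) = 1 := by
    have := congrArg Subtype.val hk
    simpa using this
  have hg : x ^ Nat.gcd (3 ^ k) 2 = 1 := pow_gcd_eq_one.mpr ⟨hk', h2⟩
  have hcop : Nat.gcd (3 ^ k) 2 = 1 := Nat.Coprime.pow_left k (by decide)
  rwa [hcop, pow_one] at hg

theorem rf60_p3_z3_a : ∀ c p : ZMod 3, c ≠ 0 → p - -(c * p) * (2 • c) = 0 := by decide

theorem rf60_p3_z3_b : ∀ c p : ZMod 3, c ≠ 0 → p ≠ 0 →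
    c + -(c * p) * -(c * p) * c - -(c * p) * p = 0 := by decide

theorem rf60_p3_z3_c : ∀ c p : ZMod 3, c ≠ 0 → p ≠ 0 → -(c * p) = 1 ∨ -(c * p) = -1 := by decide

theorem rf60_p3_z3_d : ∀ c p p' : ZMod 3, c ≠ 0 → p ≠ 0 → p' ≠ 0 →
    2 • c - c * p' * p' - c * p * p = 0 := by decide

/-- the group computation -/
theorem rf60_p3_group {G : Type*} [Group G] (D D' E A B : G) (hDD : D * D = 1) (hEE : E * E = 1)
    (hDE : D * E = E * D) (hED' : E * D' = B * E) (hDD' : D * D' = A * D) :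
    D * D' * (E * (D * D') * E) = A * B := by
  calc D * D' * (E * (D * D') * E) = (D * D') * ((E * D) * (D' * E)) := by simp only [mul_assoc]
    _ = (D * D') * ((D * E) * (D' * E)) := by rw [← hDE]
    _ = (A * D) * ((D * E) * (D' * E)) := by rw [hDD']
    _ = A * ((D * D) * ((E * D') * E)) := by simp only [mul_assoc]
    _ = A * (1 * ((B * E) * E)) := by rw [hDD, hED']
    _ = A * B * (E * E) := by simp only [mul_assoc, one_mul]
    _ = A * B := by rw [hEE, mul_one]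

/-- RF60-P3 -/
theorem commute_of_three_group {c : ZMod 3} (hc : c ≠ 0)
    (hgeo : ∀ v z : ι → ZMod 3, Q v = c → z ≠ 0 → Q z = 0 → polar Q v z = 0 →
      ∃ w : ι → ZMod 3, Q w = c ∧ polar Q v w = 0 ∧ polar Q w z ≠ 0)
    (T : Subgroup ↥(Cfsg.isometryGroup (ZMod 3) (⇑Q))) (hT : IsPGroup 3 ↥T)
    (hnorm : ∀ v : ι → ZMod 3, Q v = c → ∀ t ∈ T, tG Q v * t * (tG Q v)⁻¹ ∈ T)
    (t : ↥(Cfsg.isometryGroup (ZMod 3) (⇑Q))) (ht : t ∈ T) (v : ι → ZMod 3) (hv : Q v = c) :
    t * tG Q v = tG Q v * t := by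
  have hv0 : Q v ≠ 0 := by rw [hv]; exact hc
  obtain ⟨v', hv'def⟩ : ∃ v', v' = toEnd Q t v := ⟨_, rfl⟩
  have hv' : Q v' = c := by rw [hv'def, toEnd_isometry, hv]
  have hv'0 : Q v' ≠ 0 := by rw [hv']; exact hc
  have hmul : t * tG Q v = tG Q v' * t := by rw [hv'def]; exact mul_tG Q t hv0
  rw [hmul]
  suffices h : tG Q v' = tG Q v by rw [h]
  have hd' : tG Q v' = t * tG Q v * t⁻¹ := by rw [hmul, mul_assoc, mul_inv_cancel, mul_one]
  have hxT : tG Q v * tG Q v' ∈ T := by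
    have h1 := hnorm v hv t ht
    have h2 := T.mul_mem h1 (T.inv_mem ht)
    rw [tG_inv Q hv0] at h2
    have e : tG Q v * tG Q v' = tG Q v * t * tG Q v * t⁻¹ := by
      rw [hd']; simp only [mul_assoc]
    rw [e]; exact h2
  have hDD := tG_mul_self Q hv0
  have hD'D' := tG_mul_self Q hv'0
  by_cases hp : polar Q v v' = 0
  · have hcomm := tG_comm_of_polar_eq_zero Q hv0 hv'0 hp
    have hx2 := rf60_p3_sq_of_comm _ _ hDD hD'D' hcomm
    have hx1 := rf60_p3_eq_one_of_sq T hT _ hxT hx2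
    rw [← tG_inv Q hv0]
    exact eq_inv_of_mul_eq_one_right hx1
  · by_contra hne
    obtain ⟨p, hp_def⟩ : ∃ p, polar Q v v' = p := ⟨_, rfl⟩
    have hp0 : p ≠ 0 := by rw [← hp_def]; exact hp
    obtain ⟨z, hz_def⟩ : ∃ z, z = v' - (-(c * p)) • v := ⟨_, rfl⟩
    have hvz : polar Q v z = 0 := by
      rw [hz_def, polar_sub_right, polar_smul_right, polar_self, hv, hp_def, smul_eq_mul]
      exact rf60_p3_z3_a c p hc
    have hQz : Q z = 0 := by
      rw [hz_def, Q_sub_smul, hv', hv, polar_comm Q v' v, hp_def]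
      exact rf60_p3_z3_b c p hc hp0
    have hz0 : z ≠ 0 := by
      intro h0
      rw [hz_def] at h0
      have hv'eq : v' = (-(c * p)) • v := sub_eq_zero.mp h0
      rcases rf60_p3_z3_c c p hc hp0 with h1 | h1
      · apply hne; rw [hv'eq, h1, one_smul]
      · apply hne; rw [hv'eq, h1, neg_smul, one_smul, tG_neg]
    obtain ⟨w, hw, hvw, hwz⟩ := hgeo v z hv hz0 hQz hvz
    have hw0 : Q w ≠ 0 := by rw [hw]; exact hc
    obtain ⟨p', hp'_def⟩ : ∃ p', polar Q w v' = p' := ⟨_, rfl⟩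
    have hwv : polar Q w v = 0 := by rw [polar_comm]; exact hvw
    have hp'0 : p' ≠ 0 := by
      rw [← hp'_def]
      have : polar Q w z = polar Q w v' := by
        rw [hz_def, polar_sub_right, polar_smul_right, hwv, smul_zero, sub_zero]
      rw [← this]; exact hwz
    obtain ⟨a, ha_def⟩ : ∃ a, a = toEnd Q (tG Q v) v' := ⟨_, rfl⟩
    obtain ⟨b, hb_def⟩ : ∃ b, b = toEnd Q (tG Q w) v' := ⟨_, rfl⟩
    have hQa : Q a = c := by rw [ha_def, toEnd_isometry, hv']
    have hQb : Q b = c := by rw [hb_def, toEnd_isometry, hv']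
    have hQa0 : Q a ≠ 0 := by rw [hQa]; exact hc
    have hQb0 : Q b ≠ 0 := by rw [hQb]; exact hc
    have ha_eq : a = v' - (c * p) • v := by
      rw [ha_def, toEnd_tG Q hv0, refl_apply, hv, hp_def, zmod_three_inv hc]
    have hb_eq : b = v' - (c * p') • w := by
      rw [hb_def, toEnd_tG Q hw0, refl_apply, hw, hp'_def, zmod_three_inv hc]
    have hpab : polar Q a b = 0 := by
      rw [ha_eq, hb_eq]
      simp only [polar_sub_left, polar_sub_right, polar_smul_left, polar_smul_right, polar_self,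
        smul_eq_mul]
      rw [hv', hp_def, hvw, polar_comm Q v' w, hp'_def]
      have key := rf60_p3_z3_d c p p' hc hp0 hp'0
      linear_combination key
    have hEE := tG_mul_self Q hw0
    have hDE : tG Q v * tG Q w = tG Q w * tG Q v := tG_comm_of_polar_eq_zero Q hv0 hw0 hvw
    have hED' : tG Q w * tG Q v' = tG Q b * tG Q w := by rw [hb_def]; exact mul_tG Q (tG Q w) hv'0
    have hDD' : tG Q v * tG Q v' = tG Q a * tG Q v := by rw [ha_def]; exact mul_tG Q (tG Q v) hv'0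
    have hyT : tG Q w * (tG Q v * tG Q v') * (tG Q w)⁻¹ ∈ T := hnorm w hw _ hxT
    have hprod : tG Q a * tG Q b ∈ T := by
      have h1 := T.mul_mem hxT hyT
      rw [tG_inv Q hw0, rf60_p3_group _ _ _ _ _ hDD hEE hDE hED' hDD'] at h1
      exact h1
    have hAB : tG Q a * tG Q b = tG Q b * tG Q a := tG_comm_of_polar_eq_zero Q hQa0 hQb0 hpab
    have hsq := rf60_p3_sq_of_comm _ _ (tG_mul_self Q hQa0) (tG_mul_self Q hQb0) hAB
    have h1 := rf60_p3_eq_one_of_sq T hT _ hprod hsq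
    have h2 : tG Q a = tG Q b := by
      rw [← tG_inv Q hQb0]; exact eq_inv_of_mul_eq_one_left h1
    exact tG_ne_of_orth Q hQa0 hQb0 hpab h2

end Cfsg.Agent.Helper21.RF60
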