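import Mathlib
import Cfsg.Prelude.Def_FischerSpaces
import Cfsg.Prelude.Def_Solvable
import Cfsg.Prelude.Def_Local
import Cfsg.Prelude.Def_CaseTheorems
import Cfsg.Agent.Lib.Helper17.ReflThree
import Cfsg.Agent.Lib.RF60.RF60Basic

/-!
# S5360 piece RF60-TWO (helper14): two distinct reflections of norm `c`
-/

set_option autoImplicit false

namespace Cfsg.Agent.Helper21.RF60
open Cfsg QuadraticMap Module
open Cfsg.Agent.Helper17.Spinor

variable {ι : Type} [Fintype ι] [DecidableEq ι] (Q : QuadraticForm (ZMod 3) (ι → ZMod 3))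

/-- aux: a vector of norm `c` orthogonal to a given vector of norm `c`. -/
theorem rf60_two_exists_orth (hQ : (polarBilin Q).Nondegenerate) (hn : 5 ≤ Fintype.card ι)
    {c : ZMod 3} (hc : c ≠ 0) (v : ι → ZMod 3) (hv : Q v = c) :
    ∃ w : ι → ZMod 3, Q w = c ∧ polar Q v w = 0 := by
  set X : Submodule (ZMod 3) (ι → ZMod 3) := Submodule.span (ZMod 3) {v} with hXdef
  have hvX : v ∈ X := Submodule.subset_span (by simp)
  have hX : X ⊓ LinearMap.BilinForm.orthogonal (polarBilin Q) X = ⊥ := by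
    rw [eq_bot_iff]
    rintro x ⟨hx1, hx2⟩
    rw [SetLike.mem_coe, hXdef, Submodule.mem_span_singleton] at hx1
    obtain ⟨a, rfl⟩ := hx1
    rw [SetLike.mem_coe, mem_orthogonal_iff'] at hx2
    have h1 := hx2 v hvX
    rw [polar_smul_right, polar_self, hv] at h1
    simp only [smul_eq_mul] at h1
    have ha : a = 0 := by
      rcases mul_eq_zero.1 h1 with h | h
      · exact h
      · exact absurd h (zmod_three_two_nsmul_ne_zero hc)
    rw [ha, zero_smul]
    exact Submodule.zero_mem _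
  have hdim : finrank (ZMod 3) ↥X + 2 ≤ Fintype.card ι := by
    have : finrank (ZMod 3) ↥X ≤ 1 := by
      rw [hXdef]
      have h1 := finrank_span_le_card (R := ZMod 3) ({v} : Set (ι → ZMod 3))
      simpa using h1
    omega
  obtain ⟨w, hwX, hw⟩ := exists_orth_Q_eq Q hQ zmod_three_two_ne_zero X hX hdim hc
  exact ⟨w, hw, hwX v hvX⟩

/-- RF60-TWO -/
theorem exists_two (hQ : (polarBilin Q).Nondegenerate) (hn : 5 ≤ Fintype.card ι)
    {c : ZMod 3} (hc : c ≠ 0) :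
    ∃ a ∈ {g : ↥(Cfsg.reflectionSubgroup (⇑Q) c) |
        (g : ↥(Cfsg.isometryGroup (ZMod 3) (⇑Q))) ∈ Cfsg.reflectionsOfNorm (⇑Q) c},
      ∃ b ∈ {g : ↥(Cfsg.reflectionSubgroup (⇑Q) c) |
        (g : ↥(Cfsg.isometryGroup (ZMod 3) (⇑Q))) ∈ Cfsg.reflectionsOfNorm (⇑Q) c}, a ≠ b := by
  obtain ⟨v, hv⟩ := exists_Q_eq Q hQ (by omega) hc
  obtain ⟨w, hw, hvw⟩ := rf60_two_exists_orth Q hQ hn hc v hv
  refine ⟨⟨tG Q v, tG_mem_reflectionSubgroup Q hc hv⟩, ?_, ⟨tG Q w, tG_mem_reflectionSubgroup Q hc hw⟩, ?_, ?_⟩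
  · exact (mem_reflectionsOfNorm_iff Q hc _).2 ⟨v, hv, rfl⟩
  · exact (mem_reflectionsOfNorm_iff Q hc _).2 ⟨w, hw, rfl⟩
  · intro h
    have h1 : tG Q v = tG Q w := congrArg Subtype.val h
    exact tG_ne_of_orth Q (by rw [hv]; exact hc) (by rw [hw]; exact hc) hvw h1

end Cfsg.Agent.Helper21.RF60
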