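import Mathlib
import Cfsg.Prelude.Def_FischerSpaces
import Cfsg.Prelude.Def_Solvable
import Cfsg.Prelude.Def_Local
import Cfsg.Prelude.Def_CaseTheorems
import Cfsg.Agent.Lib.Helper17.ReflThree
import Cfsg.Agent.S5352
import Cfsg.Agent.S5353
import Cfsg.Agent.Lib.RF60.RF60Basic
import Cfsg.Agent.Lib.RF60.RF60ORTH2
import Cfsg.Agent.Lib.RF60.RF60GEO2
import Cfsg.Agent.Lib.RF60.RF60GEO3
import Cfsg.Agent.Lib.RF60.RF60P2
import Cfsg.Agent.Lib.RF60.RF60P3
import Cfsg.Agent.Lib.RF60.RF60PCORE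
import Cfsg.Agent.Lib.RF60.RF60TWO
import Cfsg.Agent.Lib.RF60.RF60CONN
import Cfsg.Agent.Lib.RF60.RF60LCOMM

/-!
# S5360 assembly (helper21): the reflection group of norm `c` over `ZMod 3`, dimension at least 5
-/

set_option autoImplicit false

namespace Cfsg.Agent.Helper21.RF60
open Cfsg QuadraticMap Module
open Cfsg.Agent.Helper17.Spinor

variable {ι : Type} [Fintype ι] [DecidableEq ι] (Q : QuadraticForm (ZMod 3) (ι → ZMod 3))

/-- assembly (helper21) -/
theorem main (hQ : (polarBilin Q).Nondegenerate) (hn : 5 ≤ Fintype.card ι)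
    {c : ZMod 3} (hc : c ≠ 0) :
    Cfsg.IsQuasisimple (commutator ↥(Cfsg.reflectionSubgroup (⇑Q) c)) ∧
    (commutator ↥(Cfsg.reflectionSubgroup (⇑Q) c)).index ≤ 2 ∧
    Cfsg.generalizedFittingSubgroup ↥(Cfsg.reflectionSubgroup (⇑Q) c) =
      Subgroup.center ↥(Cfsg.reflectionSubgroup (⇑Q) c) ⊔
        commutator ↥(Cfsg.reflectionSubgroup (⇑Q) c) ∧
    Cfsg.IsPrimitiveUnderConj {g : ↥(Cfsg.reflectionSubgroup (⇑Q) c) |
      (g : ↥(Cfsg.isometryGroup (ZMod 3) (⇑Q))) ∈ Cfsg.reflectionsOfNorm (⇑Q) c} := by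
  have hD := isThreeTranspositionClass_reflectionsOfNorm Q hQ (by omega) hc
  have hD2 := exists_two Q hQ hn hc
  have h2 : Cfsg.pCore 2 ↥(Cfsg.reflectionSubgroup (⇑Q) c) ≤ Subgroup.center _ :=
    pCore_le_center_of_commute Q hc 2 (fun T hT hnorm t ht v hv =>
      commute_of_two_group Q hc (fun u v hu hv hp => exists_singular_orth Q hQ hn hc u v hu hv hp)
        T hT hnorm t ht v hv)
  have h3 : Cfsg.pCore 3 ↥(Cfsg.reflectionSubgroup (⇑Q) c) ≤ Subgroup.center _ :=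
    pCore_le_center_of_commute Q hc 3 (fun T hT hnorm t ht v hv =>
      commute_of_three_group Q hc
        (fun v z hv hz hQz hvz => exists_orth_not_orth Q hQ hc v z hv hz hQz hvz)
        T hT hnorm t ht v hv)
  obtain ⟨L, hLn, hLq, hF, -⟩ := Cfsg.Agent.S5352.result hD hD2 h2 h3
  have := hLn
  have h53 := Cfsg.Agent.S5353.result hD hD2 h2 h3 L hLq hF
  have hconn := commutingGraph_connected Q hc (exists_Q_eq Q hQ (by omega) hc)
    (fun u v hu _ => exists_orth_both Q hQ hn hc u v hu)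
  have hidx := h53.2 hconn
  have hprim := h53.1 hidx
  have hLc := eq_commutator_of_perfect_of_index_le_two L hLq.1 hidx
  rw [← hLc]
  exact ⟨hLq, hidx, by rw [hF, sup_comm], hprim⟩

end Cfsg.Agent.Helper21.RF60
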