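import Mathlib
import Cfsg.Prelude.Def_FischerSpaces
import Cfsg.Prelude.Def_Solvable
import Cfsg.Prelude.Def_Local
import Cfsg.Prelude.Def_CaseTheorems
import Cfsg.Agent.Lib.Helper17.ReflThree

/-! S5360 farm-out (designer helper21), piece RF60-PCORE: from the commuting hypothesis, the `p`-core
of the reflection subgroup is central. -/

set_option autoImplicit false

namespace Cfsg.Agent.Helper21.RF60
open Cfsg QuadraticMap Module
open Cfsg.Agent.Helper17.Spinor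

variable {ι : Type} [Fintype ι] [DecidableEq ι] (Q : QuadraticForm (ZMod 3) (ι → ZMod 3))

/-- RF60-PCORE -/
theorem pCore_le_center_of_commute {c : ZMod 3} (hc : c ≠ 0) (p : ℕ)
    (hcomm : ∀ T : Subgroup ↥(Cfsg.isometryGroup (ZMod 3) (⇑Q)), IsPGroup p ↥T →
      (∀ v : ι → ZMod 3, Q v = c → ∀ t ∈ T, tG Q v * t * (tG Q v)⁻¹ ∈ T) →
      ∀ t ∈ T, ∀ v : ι → ZMod 3, Q v = c → t * tG Q v = tG Q v * t) :
    Cfsg.pCore p ↥(Cfsg.reflectionSubgroup (⇑Q) c) ≤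
      Subgroup.center ↥(Cfsg.reflectionSubgroup (⇑Q) c) := by
  set R := Cfsg.reflectionSubgroup (⇑Q) c with hR
  set T0 : Subgroup ↥R := Cfsg.pCore p ↥R with hT0
  have hT0n : T0.Normal := Subgroup.sSup_normal _ (fun _ h => h.1)
  have hT0p : IsPGroup p ↥T0 := Sylow.sSup_of_normal _ (fun _ h => h.2) (fun _ h => h.1)
  have hTp : IsPGroup p ↥(T0.map R.subtype) := hT0p.map R.subtype
  have hTnorm : ∀ v : ι → ZMod 3, Q v = c → ∀ t ∈ T0.map R.subtype,
      tG Q v * t * (tG Q v)⁻¹ ∈ T0.map R.subtype := by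
    intro v hv t ht
    obtain ⟨t0, ht0, rfl⟩ := Subgroup.mem_map.1 ht
    have hd : tG Q v ∈ R := tG_mem_reflectionSubgroup Q hc hv
    refine Subgroup.mem_map.2 ⟨(⟨tG Q v, hd⟩ : ↥R) * t0 * (⟨tG Q v, hd⟩ : ↥R)⁻¹,
      hT0n.conj_mem t0 ht0 _, ?_⟩
    rfl
  have hc' := hcomm (T0.map R.subtype) hTp hTnorm
  intro t0 ht0
  rw [Subgroup.mem_center_iff]
  intro g
  obtain ⟨vs, hvs, hg⟩ := exists_list_of_mem_reflectionSubgroup Q hc g.2
  have ht : (t0 : ↥(Cfsg.isometryGroup (ZMod 3) (⇑Q))) ∈ T0.map R.subtype :=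
    Subgroup.mem_map.2 ⟨t0, ht0, rfl⟩
  have hcm : Commute (t0 : ↥(Cfsg.isometryGroup (ZMod 3) (⇑Q)))
      ((vs.map (tG Q)).prod) := by
    apply Commute.list_prod_right
    intro x hx
    obtain ⟨v, hv, rfl⟩ := List.mem_map.1 hx
    exact hc' _ ht v (hvs v hv)
  apply Subtype.ext
  rw [Subgroup.coe_mul, Subgroup.coe_mul, hg]
  exact hcm.eq.symm

end Cfsg.Agent.Helper21.RF60
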